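import Groth.Agent.Lib.EffCartier.Basic
import Groth.Agent.Lib.EffCartier.Mul
import Groth.Agent.Lib.LimH13.IdealSys
import Groth.Agent.Lib.LimH13.KerFG
import Groth.Prelude.Def_CurvBase

/-!
# Ideals on a closed subscheme and on its finitely presented thickenings
-/

set_option autoImplicit false
set_option linter.style.haveILetI false
set_option linter.unusedSectionVars false
set_option backward.isDefEq.respectTransparency false
set_option backward.isDefEq.respectTransparency.types false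

universe u

open CategoryTheory CategoryTheory.Limits AlgebraicGeometry TopologicalSpace
open Groth.Agent.LimH13 (IFG)

noncomputable section

namespace Groth.Agent.ModApprox2

variable {Z : Scheme.{u}} [CompactSpace Z] [QuasiSeparatedSpace Z]

/-- A property of the finite type subideals of `K` holding for all sufficiently large ones. -/
def Ev (K : Z.IdealSheafData) (p : Z.IdealSheafData → Prop) : Prop :=
  ∃ a₀, IFG a₀ ∧ a₀ ≤ K ∧ ∀ a, IFG a → a₀ ≤ a → a ≤ K → p a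

variable {K : Z.IdealSheafData}

theorem Ev.mono {p q : Z.IdealSheafData → Prop} (h : Ev K p) (hpq : ∀ a, p a → q a) : Ev K q :=
  let ⟨a₀, h1, h2, h3⟩ := h
  ⟨a₀, h1, h2, fun a ha ha₀ haK => hpq a (h3 a ha ha₀ haK)⟩

theorem Ev.of_forall {p : Z.IdealSheafData → Prop} (h : ∀ a, p a) : Ev K p :=
  ⟨⊥, LimH13.ifg_bot, bot_le, fun a _ _ _ => h a⟩

theorem Ev.and {p q : Z.IdealSheafData → Prop} (h : Ev K p) (h' : Ev K q) : Ev K (fun a => p a ∧ q a) :=
  let ⟨a₀, h1, h2, h3⟩ := h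
  let ⟨b₀, g1, g2, g3⟩ := h'
  ⟨a₀ ⊔ b₀, h1.sup g1, sup_le h2 g2, fun a ha hle haK =>
    ⟨h3 a ha (le_sup_left.trans hle) haK, g3 a ha (le_sup_right.trans hle) haK⟩⟩

theorem Ev.forall_finset {α : Type*} (s : Finset α) {p : α → Z.IdealSheafData → Prop}
    (h : ∀ x ∈ s, Ev K (p x)) : Ev K (fun a => ∀ x ∈ s, p x a) := by
  classical
  induction s using Finset.induction_on with
  | empty => exact Ev.of_forall fun a x hx => absurd hx (Finset.notMem_empty x)
  | insert x t hx ih =>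
    refine ((h x (Finset.mem_insert_self x t)).and (ih fun y hy => h y (Finset.mem_insert_of_mem hy))).mono
      fun a ha y hy => ?_
    rcases Finset.mem_insert.1 hy with rfl | hy
    · exact ha.1
    · exact ha.2 y hy

theorem ev_mem (U : Z.affineOpens) {s : Γ(Z, U.1)} (hs : s ∈ K.ideal U) : Ev K (fun a => s ∈ a.ideal U) :=
  let ⟨J, h1, h2, h3⟩ := LimH13.exists_ifg_through K U s hs
  ⟨J, h1, h2, fun _ _ hle _ => hle U h3⟩

theorem ev_mem_add (U : Z.affineOpens) (Q : Ideal Γ(Z, U.1)) {s : Γ(Z, U.1)} (hs : s ∈ Q ⊔ K.ideal U) :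
    Ev K (fun a => s ∈ Q ⊔ a.ideal U) := by
  obtain ⟨q, hq, k, hk, rfl⟩ := Submodule.mem_sup.1 hs
  exact (ev_mem U hk).mono fun a ha => Submodule.add_mem_sup hq ha

theorem ev_le (U : Z.affineOpens) (P Q : Ideal Γ(Z, U.1)) (hP : P.FG) (h : P ≤ Q ⊔ K.ideal U) :
    Ev K (fun a => P ≤ Q ⊔ a.ideal U) := by
  obtain ⟨s, hs⟩ := hP
  refine (Ev.forall_finset s fun x hx => ev_mem_add U Q (h (hs.le (Ideal.subset_span hx)))).mono fun a ha => ?_
  rw [← hs]
  exact Submodule.span_le.2 ha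

theorem exists_finite_cover {p : Z.affineOpens → Prop} (h : ∀ z : Z, ∃ U : Z.affineOpens, z ∈ U.1 ∧ p U) :
    ∃ t : Finset Z.affineOpens, (∀ U ∈ t, p U) ∧ ∀ z : Z, ∃ U ∈ t, z ∈ U.1 := by
  classical
  choose U hzU hU using h
  obtain ⟨s, hs⟩ := isCompact_univ.elim_finite_subcover (fun z => ((U z).1 : Set Z)) (fun z => (U z).1.2)
    (fun z _ => Set.mem_iUnion.2 ⟨z, hzU z⟩)
  refine ⟨s.image U, fun V hV => ?_, fun z => ?_⟩
  · obtain ⟨w, -, rfl⟩ := Finset.mem_image.1 hV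
    exact hU w
  · obtain ⟨w, hw, hzw⟩ := Set.mem_iUnion₂.1 (hs (Set.mem_univ z))
    exact ⟨U w, Finset.mem_image_of_mem U hw, hzw⟩

theorem ev_le_of_le (P Q : Z.IdealSheafData) (hP : IFG P) (h : P ≤ Q ⊔ K) : Ev K (fun a => P ≤ Q ⊔ a) := by
  obtain ⟨t, -, ht⟩ := exists_finite_cover (Z := Z) (p := fun _ => True) fun z => by
    obtain ⟨U, hU, hz, -⟩ := exists_isAffineOpen_mem_and_subset (X := Z) (U := ⊤) (x := z) trivial
    exact ⟨⟨U, hU⟩, hz, trivial⟩
  refine (Ev.forall_finset t fun U _ => ev_le U _ (Q.ideal U) (hP U) ?_).mono fun a ha =>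
    EffCartier.le_of_forall_exists fun z => ?_
  · have := h U
    rwa [Scheme.IdealSheafData.ideal_sup] at this
  · obtain ⟨U, hU, hz⟩ := ht z
    refine ⟨U, hz, ?_⟩
    rw [Scheme.IdealSheafData.ideal_sup]
    exact ha U hU

variable {X : Scheme.{u}} (j : X ⟶ Z) [IsClosedImmersion j]

/-- Pushing forward a restricted ideal. -/
theorem map_comap_eq (I : Z.IdealSheafData) : (I.comap j).map j = I ⊔ j.ker := by
  refine le_antisymm (fun U => ?_) (sup_le (Scheme.IdealSheafData.le_map_comap _ _) ?_)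
  · rw [Scheme.IdealSheafData.ideal_map_of_isAffineHom, Scheme.IdealSheafData.ideal_sup,
      EffCartier.comap_ideal I j U ⟨_, U.2.preimage j⟩ le_rfl, ← Scheme.Hom.app_eq_appLE,
      Ideal.comap_map_of_surjective _ (j.app_surjective U U.2), Pi.sup_apply, Scheme.Hom.ker_apply, ← RingHom.ker_eq_comap_bot]
  · rw [← Scheme.IdealSheafData.map_bot]
    exact Scheme.IdealSheafData.map_mono _ bot_le

theorem comap_ker_self : j.ker.comap j = ⊥ := by
  rw [← le_bot_iff, ← Scheme.IdealSheafData.le_map_iff_comap_le, Scheme.IdealSheafData.map_bot]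

theorem ev_of_isAmbient {T : Z.IdealSheafData} (hT : IFG T) (N : Z.IdealSheafData)
    (h : T.comap j ≤ N.comap j) : Ev j.ker (fun a => T ≤ N ⊔ a) := by
  refine ev_le_of_le T N hT ?_
  rw [← map_comap_eq]
  exact Scheme.IdealSheafData.le_map_iff_comap_le.2 h

/-- An ideal of finite type extends to an ideal of finite type. -/
theorem exists_extension (IX : X.IdealSheafData) (hX : ∀ V, (IX.ideal V).FG) :
    ∃ T : Z.IdealSheafData, IFG T ∧ T.comap j = IX := by
  classical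
  obtain ⟨t, -, ht⟩ := exists_finite_cover (Z := Z) (p := fun _ => True) fun z => by
    obtain ⟨U, hU, hz, -⟩ := exists_isAffineOpen_mem_and_subset (X := Z) (U := ⊤) (x := z) trivial
    exact ⟨⟨U, hU⟩, hz, trivial⟩
  have hev : Ev (IX.map j) (fun a => ∀ U ∈ t, IX.ideal ⟨j ⁻¹ᵁ U.1, U.2.preimage j⟩ ≤
      (a.ideal U).map (j.app U.1).hom) := by
    refine Ev.forall_finset t fun U _ => ?_
    obtain ⟨s, hs⟩ := hX ⟨j ⁻¹ᵁ U.1, U.2.preimage j⟩
    choose g hg using fun x => j.app_surjective U U.2 x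
    refine (Ev.forall_finset (s.image g) fun x hx => ev_mem U (?_ : x ∈ _)).mono fun a ha => ?_
    · rw [Scheme.IdealSheafData.ideal_map_of_isAffineHom, Ideal.mem_comap]
      obtain ⟨y, hy, rfl⟩ := Finset.mem_image.1 hx
      rw [← hs]
      exact (hg y).symm ▸ Submodule.subset_span hy
    · rw [← hs, Submodule.span_le]
      exact fun y hy => (hg y) ▸ Ideal.mem_map_of_mem _ (ha (g y) (Finset.mem_image_of_mem g hy))
  obtain ⟨T, hT, hle, hT'⟩ := hev
  refine ⟨T, hT, le_antisymm (Scheme.IdealSheafData.le_map_iff_comap_le.1 hle) ?_⟩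
  refine EffCartier.le_of_forall_exists fun x => ?_
  obtain ⟨U, hU, hxU⟩ := ht (j x)
  refine ⟨⟨j ⁻¹ᵁ U.1, U.2.preimage j⟩, hxU, ?_⟩
  rw [EffCartier.comap_ideal T j U ⟨_, U.2.preimage j⟩ le_rfl, ← Scheme.Hom.app_eq_appLE]
  exact hT' T hT le_rfl hle U hU

/-- Local principality is eventually inherited by the thickenings. -/
theorem ev_isLocPrincipal (T : Z.IdealSheafData) (hT : IFG T) (hC : BlowUp.IsEffCartierIdeal (T.comap j)) :
    Ev j.ker (fun a => Curv2.IsLocPrincipal (T.comap a.subschemeι)) := by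
  obtain ⟨t, htp, ht⟩ := exists_finite_cover (Z := Z)
    (p := fun U => ∃ g : Γ(Z, U.1), T.ideal U ⊔ j.ker.ideal U = Ideal.span {g} ⊔ j.ker.ideal U) fun z => by
    have hsup : ∀ U : Z.affineOpens, T.ideal U ⊔ j.ker.ideal U =
        ((T.comap j).ideal ⟨_, U.2.preimage j⟩).comap (j.app U.1).hom := fun U => by
      rw [← Scheme.IdealSheafData.ideal_map_of_isAffineHom, map_comap_eq, Scheme.IdealSheafData.ideal_sup]
      rfl
    have hone : ∀ U : Z.affineOpens, ∀ h : Γ(X, j ⁻¹ᵁ U.1),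
        (T.comap j).ideal ⟨_, U.2.preimage j⟩ = Ideal.span {h} →
        ∃ g, T.ideal U ⊔ j.ker.ideal U = Ideal.span {g} ⊔ j.ker.ideal U := fun U h hh => by
      obtain ⟨g, hg⟩ := j.app_surjective U U.2 h
      refine ⟨g, ?_⟩
      rw [hsup, hh, ← hg, ← Set.image_singleton, ← Ideal.map_span,
        Ideal.comap_map_of_surjective _ (j.app_surjective U U.2), Scheme.Hom.ker_apply,
        ← RingHom.ker_eq_comap_bot]
    by_cases hz : z ∈ Set.range j
    · obtain ⟨x, rfl⟩ := hz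
      obtain ⟨V, hxV, f, hf⟩ := EffCartier.isEffCartierIdeal_iff.1 hC x
      obtain ⟨O, hO, hOV⟩ := j.isClosedEmbedding.isInducing.isOpen_iff.1 V.1.2
      obtain ⟨U, hU, hxU, hUO⟩ := exists_isAffineOpen_mem_and_subset (X := Z) (U := ⟨O, hO⟩) (x := j x)
        (show x ∈ j ⁻¹' O from hOV.ge hxV)
      have hle : j ⁻¹ᵁ U ≤ V.1 := fun y hy => hOV.le (show y ∈ j ⁻¹' O from hUO hy)
      refine ⟨⟨U, hU⟩, hxU, hone ⟨U, hU⟩ (X.presheaf.map (homOfLE hle).op f) ?_⟩
      rw [← Scheme.IdealSheafData.map_ideal _ (U := ⟨_, hU.preimage j⟩) (V := V) hle, hf.ideal_eq, Ideal.map_span,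
        Set.image_singleton]
      rfl
    · obtain ⟨U, hU, hzU, hUO⟩ := exists_isAffineOpen_mem_and_subset (X := Z)
        (U := ⟨(Set.range j)ᶜ, j.isClosedEmbedding.isClosed_range.isOpen_compl⟩) (x := z) hz
      refine ⟨⟨U, hU⟩, hzU, hone ⟨U, hU⟩ 1 ?_⟩
      have : j ⁻¹ᵁ U = ⊥ := eq_bot_iff.2 fun y hy => (hUO hy ⟨y, rfl⟩).elim
      haveI : Subsingleton Γ(X, j ⁻¹ᵁ U) := by
        rw [this]; infer_instance
      exact Subsingleton.elim _ _
  choose g hg using htp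
  refine (Ev.forall_finset t.attach (p := fun U a => T.ideal U.1 ⊔ a.ideal U.1 =
      Ideal.span {g U.1 U.2} ⊔ a.ideal U.1) fun U _ => ?_).mono fun a ha x hx => ?_
  · refine ((ev_le U.1 (T.ideal U.1) (Ideal.span {g U.1 U.2}) (hT U.1) ?_).and
      (ev_le U.1 (Ideal.span {g U.1 U.2}) (T.ideal U.1) (Submodule.fg_span_singleton _) ?_)).mono fun a ha =>
      le_antisymm (sup_le ha.1 le_sup_right) (sup_le ha.2 le_sup_right)
    · exact le_sup_left.trans (hg U.1 U.2).le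
    · exact le_sup_left.trans (hg U.1 U.2).ge
  · obtain ⟨U, hU, hxU⟩ := ht (a.subschemeι x)
    refine ⟨⟨_, U.2.preimage a.subschemeι⟩, hxU, a.subschemeι.app U.1 (g U hU), ?_⟩
    have h0 : (a.ideal U).map (a.subschemeι.app U.1).hom = ⊥ := by
      rw [Ideal.map_eq_bot_iff_le_ker, ← Scheme.Hom.ker_apply, Scheme.IdealSheafData.ker_subschemeι]
    have h1 := congrArg (Ideal.map (a.subschemeι.app U.1).hom) (ha ⟨U, hU⟩ (Finset.mem_attach _ _))
    rw [Ideal.map_sup, Ideal.map_sup, h0, sup_bot_eq, sup_bot_eq, Ideal.map_span, Set.image_singleton] at h1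
    rw [EffCartier.comap_ideal T a.subschemeι U ⟨_, U.2.preimage a.subschemeι⟩ le_rfl, ← Scheme.Hom.app_eq_appLE]
    exact h1

omit [CompactSpace Z] [QuasiSeparatedSpace Z] in
theorem ifg_comap {Y₁ Y₂ : Scheme.{u}} {I : Y₂.IdealSheafData} (h : IFG I) (φ : Y₁ ⟶ Y₂) : IFG (I.comap φ) := by
  haveI := LimH13.locallyOfFinitePresentation_subschemeι h
  haveI : LocallyOfFinitePresentation (pullback.fst φ I.subschemeι) :=
    MorphismProperty.pullback_fst _ _ inferInstance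
  exact LimH13.ifg_ker (pullback.fst φ I.subschemeι)

omit [CompactSpace Z] [QuasiSeparatedSpace Z] in
theorem ifg_comap_ι {W : Z.Opens} {I : Z.IdealSheafData} (h : IFG (I.comap W.ι)) (U : Z.affineOpens)
    (hU : U.1 ≤ W) : (I.ideal U).FG := by
  have hP : IsAffineOpen (W.ι ⁻¹ᵁ U.1) := by
    rw [← W.ι.isAffineOpen_iff_of_isOpenImmersion, Scheme.Hom.image_preimage_eq_opensRange_inf,
      Scheme.Opens.opensRange_ι, inf_eq_right.2 hU]
    exact U.2
  haveI : IsIso (W.ι.app U.1) := W.ι.isIso_app U.1 (by rwa [Scheme.Opens.opensRange_ι])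
  have hb := ConcreteCategory.bijective_of_isIso (W.ι.app U.1)
  let e := RingEquiv.ofBijective (W.ι.app U.1).hom hb
  have h2 := Ideal.FG.map (h ⟨_, hP⟩) (e.symm : Γ(W.toScheme, W.ι ⁻¹ᵁ U.1) →+* Γ(Z, U.1))
  rw [EffCartier.comap_ideal I W.ι U ⟨_, hP⟩ le_rfl, ← Scheme.Hom.app_eq_appLE,
    show (W.ι.app U.1).hom = (e : Γ(Z, U.1) →+* _) from rfl, Ideal.map_map, RingEquiv.symm_comp,
    Ideal.map_id] at h2
  exact h2

/-- An open over which the closed subscheme is of finite presentation. -/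
theorem ev_comap_eq (W : Z.Opens) (hW : IsCompact (W : Set Z))
    [LocallyOfFinitePresentation (j ∣_ W)] : Ev j.ker (fun a => a.comap W.ι = j.ker.comap W.ι) := by
  classical
  have hfg : IFG (j.ker.comap W.ι) := by
    rw [LimH13.ker_eq_of_isPullback (isPullback_morphismRestrict j W)]
    exact LimH13.ifg_ker _
  have hx : ∀ x : W, ∃ U : Z.affineOpens, x.1 ∈ U.1 ∧ U.1 ≤ W := fun x => by
    obtain ⟨U, hU, hxU, hUW⟩ := exists_isAffineOpen_mem_and_subset (X := Z) (U := W) (x := x.1) x.2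
    exact ⟨⟨U, hU⟩, hxU, hUW⟩
  choose U hxU hUW using hx
  obtain ⟨s, hs⟩ := hW.elim_finite_subcover (fun x => ((U x).1 : Set Z)) (fun x => (U x).1.2)
    (fun x hx => Set.mem_iUnion.2 ⟨⟨x, hx⟩, hxU ⟨x, hx⟩⟩)
  have hev := Ev.forall_finset s (p := fun x a => j.ker.ideal (U x) ≤ (⊥ : Ideal _) ⊔ a.ideal (U x))
    fun x _ => ev_le (U x) _ ⊥ (ifg_comap_ι hfg (U x) (hUW x)) le_sup_right
  obtain ⟨a₀, h1, h2, h3⟩ := hev
  refine ⟨a₀, h1, h2, fun a ha hle haK => le_antisymm (Scheme.IdealSheafData.comap_mono _ haK) ?_⟩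
  refine EffCartier.le_of_forall_exists fun w => ?_
  obtain ⟨x, hxs, hwx⟩ := Set.mem_iUnion₂.1 (hs w.2)
  have hP : IsAffineOpen (W.ι ⁻¹ᵁ (U x).1) := by
    rw [← W.ι.isAffineOpen_iff_of_isOpenImmersion, Scheme.Hom.image_preimage_eq_opensRange_inf,
      Scheme.Opens.opensRange_ι, inf_eq_right.2 (hUW x)]
    exact (U x).2
  refine ⟨⟨_, hP⟩, hwx, ?_⟩
  rw [EffCartier.comap_ideal j.ker W.ι (U x) ⟨_, hP⟩ le_rfl, EffCartier.comap_ideal a W.ι (U x) ⟨_, hP⟩ le_rfl]
  exact Ideal.map_mono ((h3 a ha hle haK x hxs).trans (sup_le bot_le le_rfl))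

end Groth.Agent.ModApprox2
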