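import Groth.Agent.Lib.EffCartier.Dense
import Mathlib.AlgebraicGeometry.AffineTransitionLimit
import Mathlib.AlgebraicGeometry.Morphisms.ClosedImmersion
import Mathlib.AlgebraicGeometry.IdealSheaf.Subscheme
import Mathlib.CategoryTheory.Limits.Constructions.Over.Basic

/-!
# The system of schematic images of a limit
-/

set_option autoImplicit false
set_option linter.style.haveILetI false
set_option linter.unusedSectionVars false
set_option backward.isDefEq.respectTransparency false
set_option backward.isDefEq.respectTransparency.types false

universe u

open CategoryTheory CategoryTheory.Limits AlgebraicGeometry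

noncomputable section

namespace Groth.Agent.ModApprox2

variable {I : Type u} [SmallCategory I] {S : Scheme.{u}} (D : I ⥤ Over S) (c : Cone D)
  [∀ i, QuasiCompact (c.π.app i).left]

theorem ker_image_le {a b : I} (t : a ⟶ b) :
    (c.π.app b).left.imageι.ker ≤ ((c.π.app a).left.imageι ≫ (D.map t).left).ker := by
  rw [Scheme.Hom.ker_comp, Scheme.IdealSheafData.ker_subschemeι, Scheme.IdealSheafData.ker_subschemeι,
    ← Scheme.Hom.ker_comp, show (c.π.app a).left ≫ (D.map t).left = (c.π.app b).left from by
      rw [← Over.comp_left, c.w]]

/-- The schematic images of the limit in the stages. -/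
def im : I ⥤ Over S where
  obj i := Over.mk ((c.π.app i).left.imageι ≫ (D.obj i).hom)
  map {a b} t := Over.homMk
    (IsClosedImmersion.lift (c.π.app b).left.imageι ((c.π.app a).left.imageι ≫ (D.map t).left) (ker_image_le D c t))
    (by
      simp only [Over.mk_hom]
      rw [← Category.assoc, IsClosedImmersion.lift_fac, Category.assoc, Over.w (D.map t)])
  map_id a := Over.OverMorphism.ext ((cancel_mono (c.π.app a).left.imageι).1 (by
    simp only [Over.homMk_left, IsClosedImmersion.lift_fac]
    simp))
  map_comp {a b d} s t := Over.OverMorphism.ext ((cancel_mono (c.π.app d).left.imageι).1 (by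
    simp only [Over.homMk_left, Over.comp_left, Category.assoc, IsClosedImmersion.lift_fac]
    rw [IsClosedImmersion.lift_fac_assoc]
    simp))

/-- The inclusion of the images into the stages. -/
def imι : im D c ⟶ D where
  app i := Over.homMk (c.π.app i).left.imageι rfl
  naturality a b t := Over.OverMorphism.ext (IsClosedImmersion.lift_fac _ _ _)

/-- The limit as a cone over its images. -/
def imCone : Cone (im D c) where
  pt := c.pt
  π :=
    { app := fun i => Over.homMk (c.π.app i).left.toImage (by
        show _ ≫ _ ≫ _ = _
        rw [Scheme.Hom.toImage_imageι_assoc]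
        exact Over.w (c.π.app i))
      naturality := fun a b t => Over.OverMorphism.ext ((cancel_mono (c.π.app b).left.imageι).1 (by
        show (𝟙 _ ≫ (c.π.app b).left.toImage) ≫ _ =
          ((c.π.app a).left.toImage ≫ IsClosedImmersion.lift _ _ (ker_image_le D c t)) ≫ _
        rw [Category.id_comp, Category.assoc, IsClosedImmersion.lift_fac, Scheme.Hom.toImage_imageι,
          Scheme.Hom.toImage_imageι_assoc, ← Over.comp_left, c.w])) }

instance dominant_imCone_π (i : I) : IsSchemeTheoreticallyDominant ((imCone D c).π.app i).left :=
  EffCartier.dominant_toImage _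

theorem dominant_im_map {a b : I} (t : a ⟶ b) : IsSchemeTheoreticallyDominant ((im D c).map t).left := by
  haveI : IsSchemeTheoreticallyDominant (((imCone D c).π.app a).left ≫ ((im D c).map t).left) := by
    rw [← Over.comp_left, (imCone D c).w]
    infer_instance
  exact EffCartier.dominant_of_comp (f := ((imCone D c).π.app a).left) _

theorem isAffineHom_im_map {a b : I} (t : a ⟶ b) [IsAffineHom (D.map t).left] :
    IsAffineHom ((im D c).map t).left := by
  haveI : IsAffineHom (((im D c).map t).left ≫ (c.π.app b).left.imageι) := by
    show IsAffineHom (IsClosedImmersion.lift _ _ (ker_image_le D c t) ≫ _)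
    rw [IsClosedImmersion.lift_fac]
    infer_instance
  exact IsAffineHom.of_comp _ (c.π.app b).left.imageι

/-- The limit is the limit of its images. -/
def isLimitImCone (hc : IsLimit c) : IsLimit (imCone D c) where
  lift s := hc.lift ((Cone.postcompose (imι D c)).obj s)
  fac s i := Over.OverMorphism.ext ((cancel_mono (c.π.app i).left.imageι).1 (by
    have h := congrArg (fun q => q.left) (hc.fac ((Cone.postcompose (imι D c)).obj s) i)
    simp only [Over.comp_left] at h ⊢
    rw [Category.assoc]
    show _ ≫ (c.π.app i).left.toImage ≫ _ = _
    rw [Scheme.Hom.toImage_imageι]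
    exact h))
  uniq s m hm := hc.uniq ((Cone.postcompose (imι D c)).obj s) m fun i => Over.OverMorphism.ext (by
    have h := congrArg (fun q => q.left ≫ (c.π.app i).left.imageι) (hm i)
    simp only [Over.comp_left, Category.assoc] at h ⊢
    show _ = (s.π.app i).left ≫ (c.π.app i).left.imageι
    rw [← h]
    show _ = m.left ≫ (c.π.app i).left.toImage ≫ (c.π.app i).left.imageι
    rw [Scheme.Hom.toImage_imageι])

end Groth.Agent.ModApprox2
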