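import Groth.Agent.Lib.EffCartier.Basic
import Groth.Agent.Lib.EffCartier.Comap
import Groth.Agent.Lib.EffCartier.Mul
import Mathlib.AlgebraicGeometry.AffineTransitionLimit
import Mathlib.AlgebraicGeometry.Morphisms.SchemeTheoreticallyDominant

/-!
# Cartier divisors descend along schematically dominant affine limits
-/

set_option autoImplicit false
set_option linter.style.haveILetI false
set_option linter.unusedSectionVars false
set_option backward.isDefEq.respectTransparency false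
set_option backward.isDefEq.respectTransparency.types false

universe u

open CategoryTheory CategoryTheory.Limits AlgebraicGeometry TopologicalSpace Opposite

namespace Groth.Agent.ModApprox2

/-- An ideal locally generated by one element, whose pullback along a dominant affine map is Cartier, is Cartier. -/
theorem isEffCartier_of_dominant {X Y : Scheme.{u}} (φ : X ⟶ Y) [IsAffineHom φ] [IsSchemeTheoreticallyDominant φ]
    (J : Y.IdealSheafData)
    (hJ : ∀ y : Y, ∃ U : Y.affineOpens, y ∈ U.1 ∧ ∃ f, J.ideal U = Ideal.span {f})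
    (hC : BlowUp.IsEffCartierIdeal (J.comap φ)) : BlowUp.IsEffCartierIdeal J := by
  intro y
  obtain ⟨U, hy, f, hf⟩ := hJ y
  refine ⟨U, hy, f, ?_, hf⟩
  have h : (J.comap φ).ideal ⟨φ ⁻¹ᵁ U.1, U.2.preimage φ⟩ = Ideal.span {φ.app U.1 f} := by
    rw [EffCartier.comap_ideal J φ U ⟨φ ⁻¹ᵁ U.1, U.2.preimage φ⟩ le_rfl, hf, Ideal.map_span, Set.image_singleton,
      Scheme.Hom.app_eq_appLE]
  have hn := EffCartier.mem_nonZeroDivisors_of_ideal_eq hC _ _ h
  rw [mem_nonZeroDivisors_iff_right] at hn ⊢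
  intro z hz
  refine φ.app_injective U.1 ?_
  rw [map_zero]
  exact hn _ (by rw [← map_mul, hz, map_zero])

section

variable {I : Type u} [Category.{u} I] [IsCofiltered I] {D : I ⥤ Scheme.{u}}
  [∀ {i j} (f : i ⟶ j), IsAffineHom (D.map f)] (c : Cone D) (hc : IsLimit c)
  [∀ j, IsSchemeTheoreticallyDominant (c.π.app j)]

variable {i : I} (V : (D.obj i).Opens)

theorem le_pre (o : Over i) : c.π.app i ⁻¹ᵁ V ≤ c.π.app o.left ⁻¹ᵁ (D.map o.hom ⁻¹ᵁ V) :=
  (congr($(c.w o.hom) ⁻¹ᵁ V)).ge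

/-- The values on the limit of the sections at a later stage. -/
noncomputable def val (o : Over i) : Γ(D.obj o.left, D.map o.hom ⁻¹ᵁ V) →+* Γ(c.pt, c.π.app i ⁻¹ᵁ V) :=
  ((c.π.app o.left).appLE (D.map o.hom ⁻¹ᵁ V) (c.π.app i ⁻¹ᵁ V) (le_pre c V o)).hom

theorem res_le {o o' : Over i} (h : o' ⟶ o) : D.map o'.hom ⁻¹ᵁ V ≤ D.map h.left ⁻¹ᵁ (D.map o.hom ⁻¹ᵁ V) := by
  rw [← Scheme.Hom.comp_preimage, ← D.map_comp, Over.w h]

/-- Restriction between stages. -/
noncomputable def res {o o' : Over i} (h : o' ⟶ o) :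
    Γ(D.obj o.left, D.map o.hom ⁻¹ᵁ V) →+* Γ(D.obj o'.left, D.map o'.hom ⁻¹ᵁ V) :=
  ((D.map h.left).appLE (D.map o.hom ⁻¹ᵁ V) (D.map o'.hom ⁻¹ᵁ V) (res_le V h)).hom

theorem val_res {o o' : Over i} (h : o' ⟶ o) (x : Γ(D.obj o.left, D.map o.hom ⁻¹ᵁ V)) :
    val c V o' (res V h x) = val c V o x := by
  show ((D.map h.left).appLE _ _ (res_le V h) ≫ (c.π.app o'.left).appLE _ _ (le_pre c V o')) x = _
  rw [Scheme.Hom.appLE_comp_appLE]
  exact ConcreteCategory.congr_hom (by simp only [c.w]) x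

theorem val_app (o : Over i) (x : Γ(D.obj i, V)) :
    val c V o ((D.map o.hom).app V x) = (c.π.app i).app V x := by
  show ((D.map o.hom).app V ≫ (c.π.app o.left).appLE _ _ (le_pre c V o)) x = _
  rw [Scheme.Hom.app_eq_appLE, Scheme.Hom.appLE_comp_appLE, Scheme.Hom.app_eq_appLE]
  exact ConcreteCategory.congr_hom (by simp only [c.w]) x

include hc in
theorem val_injective (o : Over i) : Function.Injective (val c V o) := by
  haveI : IsAffineHom (c.π.app o.left) := isAffineHom_π_app D c hc o.left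
  intro x y h
  refine (c.π.app o.left).app_injective _ ?_
  have e : c.π.app o.left ⁻¹ᵁ (D.map o.hom ⁻¹ᵁ V) = c.π.app i ⁻¹ᵁ V := congr($(c.w o.hom) ⁻¹ᵁ V)
  haveI : IsIso (homOfLE (le_pre c V o)).op := by
    rw [show homOfLE (le_pre c V o) = eqToHom e.symm from Subsingleton.elim _ _]; infer_instance
  apply (ConcreteCategory.bijective_of_isIso (c.pt.presheaf.map (homOfLE (le_pre c V o)).op)).1
  exact h

include hc in
set_option maxHeartbeats 800000 in
theorem exists_val_eq (hV : IsAffineOpen V) (s : Γ(c.pt, c.π.app i ⁻¹ᵁ V)) :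
    ∃ (o : Over i) (x : Γ(D.obj o.left, D.map o.hom ⁻¹ᵁ V)), val c V o x = s := by
  have (j : Over i) : IsAffine ((opensDiagram D i V).obj j) := hV.preimage (D.map _)
  obtain ⟨j, t, hj⟩ := exists_appTop_π_eq_of_isAffine_of_isLimit _ _
    (isLimitOpensCone D c hc i V) ((c.π.app i ⁻¹ᵁ V).topIso.inv s)
  refine ⟨j, (D.map j.hom ⁻¹ᵁ V).topIso.hom t, ?_⟩
  have hs := congrArg (c.π.app i ⁻¹ᵁ V).topIso.hom hj
  rw [show (c.π.app i ⁻¹ᵁ V).topIso.hom ((c.π.app i ⁻¹ᵁ V).topIso.inv s) = s from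
    Iso.inv_hom_id_apply (c.π.app i ⁻¹ᵁ V).topIso s] at hs
  rw [← hs]
  simp [val, ← ConcreteCategory.comp_apply, Scheme.Hom.app_eq_appLE, Scheme.Hom.resLE_appLE]
  exact (ConcreteCategory.congr_hom (Scheme.Hom.appLE_map (c.π.app j.left) _ _) t).symm

include hc in
/-- Membership in an extended ideal descends to some stage. -/
theorem exists_mem_map (hV : IsAffineOpen V) (T : Ideal Γ(D.obj i, V)) {z : Γ(c.pt, c.π.app i ⁻¹ᵁ V)}
    (hz : z ∈ T.map ((c.π.app i).app V).hom) :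
    ∃ o : Over i, ∀ (o' : Over i) (_ : o' ⟶ o) (x : Γ(D.obj o'.left, D.map o'.hom ⁻¹ᵁ V)),
      val c V o' x = z → x ∈ T.map ((D.map o'.hom).app V).hom := by
  induction hz using Submodule.span_induction with
  | mem z hz =>
    obtain ⟨t, ht, rfl⟩ := hz
    refine ⟨Over.mk (𝟙 i), fun o' _ x hx => ?_⟩
    rw [val_injective c hc V o' (hx.trans (val_app c V o' t).symm)]
    exact Ideal.mem_map_of_mem _ ht
  | zero =>
    refine ⟨Over.mk (𝟙 i), fun o' _ x hx => ?_⟩
    rw [val_injective c hc V o' (hx.trans (map_zero _).symm)]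
    exact Ideal.zero_mem _
  | add a b _ _ ha hb =>
    obtain ⟨oa, hoa⟩ := ha
    obtain ⟨ob, hob⟩ := hb
    obtain ⟨xa₀, za, hza⟩ := exists_val_eq c hc V hV a
    classical
    obtain ⟨o, ho⟩ := IsCofiltered.inf_objs_exists (C := Over i) {oa, ob, xa₀}
    refine ⟨o, fun o' h x hx => ?_⟩
    let ta := res V (h ≫ (ho (X := xa₀) (by simp)).some) za
    have hta : val c V o' ta = a := (val_res c V _ za).trans hza
    have h1 := hoa o' (h ≫ (ho (X := oa) (by simp)).some) ta hta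
    have h2 := hob o' (h ≫ (ho (X := ob) (by simp)).some) (x - ta) (by rw [map_sub, hx, hta]; abel)
    simpa using Ideal.add_mem _ h1 h2
  | smul r a _ ha =>
    obtain ⟨oa, hoa⟩ := ha
    obtain ⟨or, xr, hxr⟩ : ∃ (o : Over i) (x : Γ(D.obj o.left, D.map o.hom ⁻¹ᵁ V)), val c V o x = r :=
      exists_val_eq c hc V hV r
    obtain ⟨os, xs, hxs⟩ := exists_val_eq c hc V hV a
    classical
    obtain ⟨o, ho⟩ := IsCofiltered.inf_objs_exists (C := Over i) {oa, or, os}
    refine ⟨o, fun o' h x hx => ?_⟩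
    let tr := res V (h ≫ (ho (X := or) (by simp)).some) xr
    let ts := res V (h ≫ (ho (X := os) (by simp)).some) xs
    have htr : val c V o' tr = r := (val_res c V _ xr).trans hxr
    have hts : val c V o' ts = a := (val_res c V _ xs).trans hxs
    rw [val_injective c hc V o' (show val c V o' x = val c V o' (tr * ts) by rw [hx, map_mul, htr, hts, smul_eq_mul])]
    exact Ideal.mul_mem_left _ _ (hoa o' (h ≫ (ho (X := oa) (by simp)).some) ts hts)

include hc in
/-- Near a point of the limit: a stage at which the ideal is principal and contained in the other one. -/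
theorem exists_good (K L : (D.obj i).IdealSheafData) (hK : ∀ U, (K.ideal U).FG)
    (hC : BlowUp.IsEffCartierIdeal (K.comap (c.π.app i)))
    (hle : K.comap (c.π.app i) ≤ L.comap (c.π.app i)) (x : c.pt) :
    ∃ (o : Over i) (W : (D.obj o.left).affineOpens), c.π.app o.left x ∈ W.1 ∧
      ∃ f, (K.comap (D.map o.hom)).ideal W = Ideal.span {f} ∧ f ∈ (L.comap (D.map o.hom)).ideal W := by
  classical
  haveI : ∀ j, IsAffineHom (c.π.app j) := fun j => isAffineHom_π_app D c hc j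
  obtain ⟨V, hV, hxV, -⟩ :=
    exists_isAffineOpen_mem_and_subset (X := D.obj i) (U := ⊤) (x := c.π.app i x) trivial
  let P : c.pt.affineOpens := ⟨c.π.app i ⁻¹ᵁ V, hV.preimage _⟩
  obtain ⟨U, hxU, hUP, f₀, hf₀⟩ := EffCartier.exists_isEqn hC (show x ∈ P.1 from hxV)
  obtain ⟨r, hrU, hxr⟩ := P.2.exists_basicOpen_le (V := U.1) ⟨x, hxU⟩ hxV
  let B : c.pt.affineOpens := c.pt.affineBasicOpen r
  let alg : Algebra Γ(c.pt, P.1) Γ(c.pt, B.1) := (c.pt.presheaf.map (homOfLE (c.pt.basicOpen_le r)).op).hom.toAlgebra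
  letI := alg
  haveI hloc : IsLocalization.Away r Γ(c.pt, B.1) := P.2.isLocalization_basicOpen r
  let f₁ : Γ(c.pt, B.1) := c.pt.presheaf.map (homOfLE hrU).op f₀
  obtain ⟨n, f, hf⟩ := IsLocalization.Away.surj r f₁
  have hu : IsUnit (algebraMap Γ(c.pt, P.1) Γ(c.pt, B.1) r ^ n) :=
    (IsLocalization.Away.algebraMap_isUnit r).pow n
  have hBf : (K.comap (c.π.app i)).ideal B = Ideal.span {algebraMap Γ(c.pt, P.1) Γ(c.pt, B.1) f} := by
    rw [← Scheme.IdealSheafData.map_ideal _ (U := B) (V := U) hrU, hf₀.ideal_eq, Ideal.map_span, Set.image_singleton,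
      ← hf, Ideal.span_singleton_mul_right_unit hu]
    rfl
  have hKP : (K.comap (c.π.app i)).ideal P = (K.ideal ⟨V, hV⟩).map ((c.π.app i).app V).hom := by
    rw [EffCartier.comap_ideal K (c.π.app i) ⟨V, hV⟩ P le_rfl, Scheme.Hom.app_eq_appLE]
  have hLP : (L.comap (c.π.app i)).ideal P = (L.ideal ⟨V, hV⟩).map ((c.π.app i).app V).hom := by
    rw [EffCartier.comap_ideal L (c.π.app i) ⟨V, hV⟩ P le_rfl, Scheme.Hom.app_eq_appLE]
  -- membership in the ideals after multiplying by powers of `r`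
  have hdown : ∀ (J : Ideal Γ(c.pt, P.1)) (z : Γ(c.pt, P.1)),
      algebraMap Γ(c.pt, P.1) Γ(c.pt, B.1) z ∈ J.map (algebraMap Γ(c.pt, P.1) Γ(c.pt, B.1)) →
      ∃ N : ℕ, r ^ N * z ∈ J := by
    intro J z hz
    obtain ⟨m, ⟨N, rfl⟩, hm⟩ := (IsLocalization.algebraMap_mem_map_algebraMap_iff (Submonoid.powers r) _ J z).1 hz
    exact ⟨N, hm⟩
  have hfK : ∃ N : ℕ, r ^ N * f ∈ (K.ideal ⟨V, hV⟩).map ((c.π.app i).app V).hom := by
    rw [← hKP]
    refine hdown _ f ?_
    show _ ∈ Ideal.map (c.pt.presheaf.map (homOfLE (c.pt.basicOpen_le r)).op).hom _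
    erw [Scheme.IdealSheafData.map_ideal _ (U := B) (V := P) (c.pt.basicOpen_le r)]
    rw [hBf]
    exact Ideal.mem_span_singleton_self _
  have hfL : ∃ N : ℕ, r ^ N * f ∈ (L.ideal ⟨V, hV⟩).map ((c.π.app i).app V).hom := by
    rw [← hLP]
    refine hdown _ f ?_
    show _ ∈ Ideal.map (c.pt.presheaf.map (homOfLE (c.pt.basicOpen_le r)).op).hom _
    erw [Scheme.IdealSheafData.map_ideal _ (U := B) (V := P) (c.pt.basicOpen_le r)]
    exact hle B (by rw [hBf]; exact Ideal.mem_span_singleton_self _)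
  obtain ⟨N₁, hN₁⟩ := hfK
  obtain ⟨N₂, hN₂⟩ := hfL
  obtain ⟨gens, hgens⟩ := hK ⟨V, hV⟩
  have hgf : ∀ t ∈ gens, ∃ N : ℕ, r ^ N * (show Γ(c.pt, P.1) from (c.π.app i).app V t) ∈ Ideal.span {f} := by
    intro t ht
    refine hdown _ _ ?_
    rw [Ideal.map_span, Set.image_singleton, ← hBf]
    erw [← Scheme.IdealSheafData.map_ideal _ (U := B) (V := P) (c.pt.basicOpen_le r)]
    refine Ideal.mem_map_of_mem _ ?_
    rw [hKP]
    exact Ideal.mem_map_of_mem _ (hgens ▸ Ideal.subset_span ht)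
  choose! N hN using hgf
  obtain ⟨oK, hoK⟩ := exists_mem_map c hc V hV _ hN₁
  obtain ⟨oL, hoL⟩ := exists_mem_map c hc V hV _ hN₂
  choose! a ha using fun t ht => Ideal.mem_span_singleton'.1 (hN t ht)
  obtain ⟨or, xr, hxr'⟩ := exists_val_eq c hc V hV r
  obtain ⟨of', xf, hxf⟩ := exists_val_eq c hc V hV f
  choose oa xa hxa using fun t => exists_val_eq c hc V hV (a t)
  obtain ⟨o, ho⟩ := IsCofiltered.inf_objs_exists (C := Over i) ({oK, oL, or, of'} ∪ gens.image oa)
  let rr := res V (ho (X := or) (by simp)).some xr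
  let ff := res V (ho (X := of') (by simp)).some xf
  have hrr : val c V o rr = r := (val_res c V _ xr).trans hxr'
  have hff : val c V o ff = f := (val_res c V _ xf).trans hxf
  have hVo : IsAffineOpen (D.map o.hom ⁻¹ᵁ V) := hV.preimage _
  let W : (D.obj o.left).affineOpens := (D.obj o.left).affineBasicOpen (U := ⟨_, hVo⟩) rr
  refine ⟨o, W, ?_, ?_⟩
  · show x ∈ c.π.app o.left ⁻¹ᵁ (D.obj o.left).basicOpen rr
    rw [Scheme.preimage_basicOpen]
    have h1 : val c V o rr = _ := hrr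
    have h2 := Scheme.basicOpen_appLE (c.π.app o.left) (c.π.app i ⁻¹ᵁ V) (D.map o.hom ⁻¹ᵁ V) (le_pre c V o) rr
    rw [show (c.π.app o.left).appLE _ _ (le_pre c V o) rr = r from hrr] at h2
    rw [← Scheme.preimage_basicOpen]
    exact (h2.le hxr).2
  let ρ := ((D.obj o.left).presheaf.map (homOfLE ((D.obj o.left).basicOpen_le rr)).op).hom
  have hunit : ∀ m : ℕ, IsUnit (ρ rr ^ m) := fun m =>
    (RingedSpace.isUnit_res_basicOpen _ rr).pow m
  have hmapK : (K.comap (D.map o.hom)).ideal W = ((K.ideal ⟨V, hV⟩).map ((D.map o.hom).app V).hom).map ρ := by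
    rw [← Scheme.IdealSheafData.map_ideal _ (U := W) (V := ⟨_, hVo⟩) ((D.obj o.left).basicOpen_le rr),
      EffCartier.comap_ideal K (D.map o.hom) ⟨V, hV⟩ ⟨_, hVo⟩ le_rfl, Scheme.Hom.app_eq_appLE]
    rfl
  have hmapL : (L.comap (D.map o.hom)).ideal W = ((L.ideal ⟨V, hV⟩).map ((D.map o.hom).app V).hom).map ρ := by
    rw [← Scheme.IdealSheafData.map_ideal _ (U := W) (V := ⟨_, hVo⟩) ((D.obj o.left).basicOpen_le rr),
      EffCartier.comap_ideal L (D.map o.hom) ⟨V, hV⟩ ⟨_, hVo⟩ le_rfl, Scheme.Hom.app_eq_appLE]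
    rfl
  have hmem : ∀ {T : Ideal Γ(D.obj o.left, D.map o.hom ⁻¹ᵁ V)} {m : ℕ}, rr ^ m * ff ∈ T → ρ ff ∈ T.map ρ := by
    intro T m h
    have := Ideal.mem_map_of_mem ρ h
    rw [map_mul, map_pow] at this
    exact (Ideal.unit_mul_mem_iff_mem _ (hunit m)).1 this
  refine ⟨ρ ff, le_antisymm ?_ ?_, ?_⟩
  · rw [hmapK, Ideal.map_map, ← hgens, Ideal.map_span, Ideal.span_le]
    rintro _ ⟨t, ht, rfl⟩
    let ta := res V (ho (X := oa t) (Finset.mem_union_right _ (Finset.mem_image_of_mem _ ht))).some (xa t)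
    have hta : val c V o ta = a t := (val_res c V _ (xa t)).trans (hxa t)
    have he : rr ^ N t * (D.map o.hom).app V t = ta * ff := val_injective c hc V o (by
      rw [map_mul, map_pow, val_app, hrr, map_mul, hta, hff]
      exact (ha t ht).symm)
    refine (Ideal.unit_mul_mem_iff_mem _ (hunit (N t))).1 ?_
    show ρ rr ^ N t * ρ ((D.map o.hom).app V t) ∈ _
    rw [← map_pow, ← map_mul, he, map_mul]
    exact Ideal.mul_mem_left _ _ (Ideal.mem_span_singleton_self _)
  · rw [Ideal.span_le, Set.singleton_subset_iff, hmapK]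
    exact hmem (hoK o (ho (X := oK) (by simp)).some (rr ^ N₁ * ff) (by rw [map_mul, map_pow, hrr, hff]))
  · rw [hmapL]
    exact hmem (hoL o (ho (X := oL) (by simp)).some (rr ^ N₂ * ff) (by rw [map_mul, map_pow, hrr, hff]))

include hc in
/-- A stage at which the ideal is Cartier and satisfies the inclusion. -/
theorem exists_stage [∀ j, CompactSpace (D.obj j)] (K L : (D.obj i).IdealSheafData) (hK : ∀ U, (K.ideal U).FG)
    (hC : BlowUp.IsEffCartierIdeal (K.comap (c.π.app i)))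
    (hle : K.comap (c.π.app i) ≤ L.comap (c.π.app i)) :
    ∃ j : Over i, ∀ k : Over i, (k ⟶ j) → BlowUp.IsEffCartierIdeal (K.comap (D.map k.hom)) ∧
      K.comap (D.map k.hom) ≤ L.comap (D.map k.hom) := by
  classical
  haveI : ∀ j, IsAffineHom (c.π.app j) := fun j => isAffineHom_π_app D c hc j
  choose o W hxW f hf hfL using exists_good c hc K L hK hC hle
  haveI : CompactSpace c.pt := QuasiCompact.compactSpace_of_compactSpace (c.π.app i)
  obtain ⟨S, hS⟩ := isCompact_univ.elim_finite_subcover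
    (fun x : c.pt => ((c.π.app (o x).left ⁻¹ᵁ (W x).1 : c.pt.Opens) : Set c.pt)) (fun x => (c.π.app (o x).left ⁻¹ᵁ (W x).1).2)
    (fun x _ => Set.mem_iUnion.2 ⟨x, hxW x⟩)
  obtain ⟨o₁, ho₁⟩ := IsCofiltered.inf_objs_exists (C := Over i) (S.image o)
  let φ (x : S) : o₁ ⟶ o x.1 := (ho₁ (Finset.mem_image_of_mem _ x.2)).some
  let O : (D.obj o₁.left).Opens := ⨆ x : S, D.map (φ x).left ⁻¹ᵁ (W x.1).1
  have hO : c.π.app o₁.left ⁻¹ᵁ (⊤ : (D.obj o₁.left).Opens) ≤ c.π.app o₁.left ⁻¹ᵁ O := fun y _ => by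
    obtain ⟨x, hx, hy⟩ := Set.mem_iUnion₂.1 (hS (Set.mem_univ y))
    refine Opens.mem_iSup.2 ⟨⟨x, hx⟩, ?_⟩
    show (c.π.app o₁.left ≫ D.map (φ ⟨x, hx⟩).left) y ∈ (W x).1
    rw [c.w]
    exact hy
  obtain ⟨j, t, ht⟩ := exists_map_preimage_le_map_preimage D c hc (i := o₁.left) (U := ⊤) (V := O) isCompact_univ hO
  refine ⟨Over.mk (t ≫ o₁.hom), fun k hk => ?_⟩
  have hk' : (hk.left ≫ t) ≫ o₁.hom = k.hom := by
    rw [Category.assoc]; exact Over.w hk
  have key : ∀ y : D.obj k.left, ∃ U : (D.obj k.left).affineOpens, y ∈ U.1 ∧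
      ∃ g, (K.comap (D.map k.hom)).ideal U = Ideal.span {g} ∧ g ∈ (L.comap (D.map k.hom)).ideal U := by
    intro y
    have hy : D.map (hk.left ≫ t) y ∈ O := by
      have := ht (x := D.map hk.left y) trivial
      rw [D.map_comp]; exact this
    obtain ⟨x, hx⟩ := Opens.mem_iSup.1 hy
    let τ := hk.left ≫ t ≫ (φ x).left
    refine ⟨⟨D.map τ ⁻¹ᵁ (W x.1).1, (W x.1).2.preimage _⟩, ?_, (D.map τ).app _ (f x.1), ?_, ?_⟩
    · show D.map τ y ∈ (W x.1).1
      rw [show τ = (hk.left ≫ t) ≫ (φ x).left from (Category.assoc _ _ _).symm, D.map_comp]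
      exact hx
    all_goals
      have e : D.map k.hom = D.map τ ≫ D.map (o x.1).hom := by
        rw [← D.map_comp, ← hk']
        simp only [τ, Category.assoc]
        rw [Over.w (φ x)]
      rw [e, Scheme.IdealSheafData.comap_comp,
        EffCartier.comap_ideal _ (D.map τ) (W x.1) ⟨D.map τ ⁻¹ᵁ (W x.1).1, (W x.1).2.preimage _⟩ le_rfl]
    · rw [hf x.1, Ideal.map_span, Set.image_singleton, Scheme.Hom.app_eq_appLE]
    · rw [Scheme.Hom.app_eq_appLE]
      exact Ideal.mem_map_of_mem _ (hfL x.1)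
  refine ⟨isEffCartier_of_dominant (c.π.app k.left) _ (fun y => ?_) ?_, EffCartier.le_of_forall_exists fun y => ?_⟩
  · obtain ⟨U, hy, g, hg, -⟩ := key y
    exact ⟨U, hy, g, hg⟩
  · rw [← Scheme.IdealSheafData.comap_comp, c.w]
    exact hC
  · obtain ⟨U, hy, g, hg, hgL⟩ := key y
    exact ⟨U, hy, by rw [hg, Ideal.span_le, Set.singleton_subset_iff]; exact hgL⟩

end

end Groth.Agent.ModApprox2
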